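import Cfsg.Prelude.Def_Blocks
import Cfsg.Agent.Blocks.Congr
import Cfsg.Agent.Char.GaloisTwist
import Cfsg.Agent.Char.Orthogonality
import Mathlib.Data.Nat.Choose.Factorization
import Mathlib.FieldTheory.IntermediateField.Adjoin.Basic

/-!
# Schur's bound for the order of a group of prime power order with a rational faithful character

Off the identity the character takes values `n - p * j` with `1 ≤ j ≤ n / (p - 1)`, so the group
order divides the product of these `p * j`.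
-/

set_option autoImplicit false
set_option linter.unusedSectionVars false
set_option linter.style.haveILetI false

namespace CfsgLib.SchurBound

open Finset CfsgLib.Char Polynomial

variable {P : Type*} [Group P] [Finite P] {χ : P → ℂ}

theorem isCharacter_pow (hχ : Cfsg.IsCharacter P χ) (m : ℕ) :
    Cfsg.IsCharacter P (fun g => χ g ^ m) := by
  induction m with
  | zero => simpa using (isCharacter_one (G := P))
  | succ m ih =>
    have h := IsCharacter.mul ih hχ
    simp only [pow_succ]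
    exact h

theorem card_dvd_prod [Fintype P] (hχ : Cfsg.IsCharacter P χ) (Q : ℤ[X]) {z : ℤ}
    (hz : ∑ g : P, aeval (χ g) Q = (z : ℂ)) : (Nat.card P : ℤ) ∣ z := by
  have key : ∀ m : ℕ, ∃ a : ℕ, ∑ g : P, χ g ^ m = (Nat.card P : ℂ) * a := by
    intro m
    obtain ⟨a, ha⟩ := IsCharacter.exists_classInner_eq_natCast' (isCharacter_pow hχ m) (isCharacter_one (G := P))
    refine ⟨a, ?_⟩
    rw [← ha, Cfsg.classInner, ← mul_assoc, mul_inv_cancel₀ (Nat.cast_ne_zero.2 Nat.card_pos.ne'), one_mul]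
    simp
  choose a ha using key
  refine ⟨∑ m ∈ range (Q.natDegree + 1), Q.coeff m * a m, ?_⟩
  have h : (z : ℂ) = ((Nat.card P : ℤ) * ∑ m ∈ range (Q.natDegree + 1), Q.coeff m * a m : ℤ) := by
    rw [← hz]
    simp only [aeval_eq_sum_range, zsmul_eq_mul]
    rw [sum_comm]
    push_cast
    rw [mul_sum]
    refine sum_congr rfl fun m _ => ?_
    rw [← mul_sum, ha]
    ring
  exact_mod_cast h

theorem exists_geom_sum_eq {w : ℂ} {M : ℕ} (hw : w ^ M = 1) :
    ∃ a : ℕ, ∑ i ∈ range M, w ^ i = a ∧ a ≤ M ∧ (w ≠ 1 → a = 0) ∧ (w = 1 → a = M) := by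
  by_cases h1 : w = 1
  · exact ⟨M, by simp [h1], le_rfl, fun h => absurd h1 h, fun _ => rfl⟩
  · exact ⟨0, by rw [geom_sum_eq h1, hw, sub_self, zero_div, Nat.cast_zero], Nat.zero_le _, fun _ => rfl,
      fun h => absurd h h1⟩

/-- The values off the identity. -/
theorem exists_value {p : ℕ} [hp : Fact p.Prime] (hχ : Cfsg.IsCharacter P χ)
    (hfaith : ∀ g, χ g = χ 1 → g = 1) {n : ℕ} (hn : χ 1 = n) {g : P} (hg : g ≠ 1) {k : ℕ}
    (hord : orderOf g = p ^ (k + 1)) (hgal : ∀ m : ℕ, ¬ p ∣ m → χ (g ^ m) = χ g) :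
    ∃ j : ℕ, 1 ≤ j ∧ j ≤ n / (p - 1) ∧ χ g = ((n : ℤ) - p * j : ℤ) := by
  classical
  have hp1 := hp.out.one_lt
  have hp0 := hp.out.pos
  obtain ⟨s, hscard, hs, hk⟩ := IsCharacter.exists_roots hχ g
  rw [hord] at hs
  obtain ⟨N, hN⟩ : ∃ N, p ^ k = N := ⟨_, rfl⟩
  have hN0 : 0 < N := hN ▸ pow_pos hp0 k
  have hNp : p ^ (k + 1) = p * N := by rw [pow_succ', hN]
  obtain ⟨K, hK⟩ : ∃ K, (range (p ^ (k + 1))).filter (fun i => ¬ p ∣ i) = K := ⟨_, rfl⟩
  have hmul : (range (p ^ (k + 1))).filter (fun i => p ∣ i) = (range N).image (fun i => p * i) := by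
    ext i
    simp only [mem_filter, Finset.mem_range, mem_image, hNp]
    constructor
    · rintro ⟨hi, c, rfl⟩
      exact ⟨c, Nat.lt_of_mul_lt_mul_left hi, rfl⟩
    · rintro ⟨c, hc, rfl⟩
      exact ⟨Nat.mul_lt_mul_of_pos_left hc hp0, Dvd.intro c rfl⟩
  have hinj : Set.InjOn (fun i => p * i) (range N : Set ℕ) := fun a _ b _ h =>
    Nat.eq_of_mul_eq_mul_left hp0 h
  have hKcard : K.card = (p - 1) * N := by
    have h := card_filter_add_card_filter_not (s := range (p ^ (k + 1))) (fun i => p ∣ i)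
    rw [hmul, hK, card_image_of_injOn hinj, card_range, card_range, hNp] at h
    rw [Nat.sub_mul, one_mul]
    omega
  -- Ramanujan sums
  have hterm : ∀ z ∈ s, ∃ c : ℤ, ∑ i ∈ K, z ^ i = (c : ℂ) ∧ -(N : ℤ) ≤ c ∧ c ≤ ((p - 1) * N : ℕ) := by
    intro z hz
    obtain ⟨a, ha, -, ha0, ha1⟩ := exists_geom_sum_eq (hs z hz)
    have hzp : (z ^ p) ^ N = 1 := by rw [← pow_mul, ← hNp]; exact hs z hz
    obtain ⟨b, hb, hbN, -, hb1⟩ := exists_geom_sum_eq hzp
    refine ⟨(a : ℤ) - b, ?_, by omega, ?_⟩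
    · have h := sum_filter_add_sum_filter_not (range (p ^ (k + 1))) (fun i => p ∣ i) (fun i => z ^ i)
      rw [hmul, hK, sum_image hinj, ha] at h
      simp only [pow_mul, hb] at h
      push_cast
      linear_combination h
    · by_cases hz1 : z = 1
      · rw [ha1 hz1, hb1 (by rw [hz1, one_pow]), hNp, Nat.sub_mul, one_mul,
          Nat.cast_sub (Nat.le_mul_of_pos_left N hp0)]
      · rw [ha0 hz1]; omega
  choose! c hc hclow hchigh using hterm
  have hsum : ((p - 1) * N : ℕ) * χ g = (((s.map c).sum : ℤ) : ℂ) := by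
    have h1 : ∑ i ∈ K, χ (g ^ i) = (K.card : ℂ) * χ g := by
      rw [sum_congr rfl fun i hi => hgal i (by rw [← hK] at hi; exact (mem_filter.1 hi).2), sum_const,
        nsmul_eq_mul]
    rw [← hKcard, ← h1, sum_congr rfl fun i _ => hk i]
    have h2 : ∀ t : Multiset ℂ, (∀ z ∈ t, z ∈ s) →
        ∑ i ∈ K, (t.map fun z => z ^ i).sum = (((t.map c).sum : ℤ) : ℂ) := by
      intro t
      induction t using Multiset.induction with
      | empty => simp
      | cons a t ih =>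
        intro ht
        simp only [Multiset.map_cons, Multiset.sum_cons, sum_add_distrib, Int.cast_add]
        rw [hc a (ht a (Multiset.mem_cons_self a t)), ih fun z hz => ht z (Multiset.mem_cons_of_mem hz)]
    exact h2 s fun _ h => h
  have hn' : (Multiset.card s : ℂ) = n := by
    rw [← hn]
    have h := hk 0
    rw [pow_zero] at h
    rw [h]
    simp
  have hcard : Multiset.card s = n := by exact_mod_cast hn'
  have hD : (((p - 1) * N : ℕ) : ℂ) ≠ 0 := by
    rw [Nat.cast_ne_zero]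
    exact (Nat.mul_pos (by omega) hN0).ne'
  have hint : IsIntegral ℤ (χ g) := by
    have h := hk 1
    rw [pow_one] at h
    rw [h]
    refine IsIntegral.multiset_sum fun z hz => ?_
    obtain ⟨w, hw, rfl⟩ := Multiset.mem_map.1 hz
    rw [pow_one]
    exact isIntegral_of_pow_eq_one (pow_pos hp0 _) (hs w hw)
  obtain ⟨v, hv, -⟩ := exists_int_of_isIntegral_rat ((((s.map c).sum : ℤ) : ℚ) / (((p - 1) * N : ℕ) : ℚ)) hint
    (by rw [Rat.cast_div, Rat.cast_intCast, Rat.cast_natCast, ← hsum, mul_div_cancel_left₀ _ hD])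
  have hveq : (((p - 1) * N : ℕ) : ℤ) * v = (s.map c).sum := by
    have h : ((((p - 1) * N : ℕ) : ℤ) * v : ℂ) = (((s.map c).sum : ℤ) : ℂ) := by
      rw [← hsum, hv]; push_cast; ring
    exact_mod_cast h
  have hlow : -((N : ℤ) * n) ≤ (s.map c).sum := by
    have h := Multiset.card_nsmul_le_sum (s := s.map c) (a := -(N : ℤ)) fun x hx => by
      obtain ⟨z, hz, rfl⟩ := Multiset.mem_map.1 hx
      exact hclow z hz
    rw [Multiset.card_map, hcard, nsmul_eq_mul] at h
    linarith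
  have hhigh : (s.map c).sum ≤ (((p - 1) * N : ℕ) : ℤ) * n := by
    have h := Multiset.sum_le_card_nsmul (s.map c) (((p - 1) * N : ℕ) : ℤ) fun x hx => by
      obtain ⟨z, hz, rfl⟩ := Multiset.mem_map.1 hx
      exact hchigh z hz
    rw [Multiset.card_map, hcard, nsmul_eq_mul] at h
    linarith
  obtain ⟨M, hM⟩ := CfsgLib.Block.exists_isPModular hp.out
  haveI : M.IsPrime := hM.2.1.isPrime
  have hcong := CfsgLib.Block.char_cong_pow hM hχ (g := g) (a := k + 1) (k := 0)
    (by rw [zero_mul, pow_zero, ← hord, pow_orderOf_eq_one])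
  rw [pow_zero, hn, hv] at hcong
  have hdvd : (p : ℤ) ∣ v - n := (CfsgLib.Block.memLocalIdeal_intCast_iff hM).1 (by push_cast; exact hcong)
  have hvn : v ≠ n := fun h => hg (hfaith g (by rw [hv, h, hn]; simp))
  have hle : v ≤ n := by
    have h : (((p - 1) * N : ℕ) : ℤ) * v ≤ (((p - 1) * N : ℕ) : ℤ) * n := hveq ▸ hhigh
    exact le_of_mul_le_mul_left h (by exact_mod_cast Nat.mul_pos (by omega) hN0)
  obtain ⟨j, hj⟩ : ∃ j : ℕ, (n : ℤ) - v = p * j := by
    obtain ⟨d, hd⟩ := hdvd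
    refine ⟨(-d).toNat, ?_⟩
    have : 0 ≤ -d := by nlinarith
    rw [Int.toNat_of_nonneg this]
    linarith
  refine ⟨j, ?_, ?_, by rw [hv]; congr 1; linarith⟩
  · by_contra h0
    exact hvn (by rw [show j = 0 by omega] at hj; push_cast at hj; linarith)
  · rw [Nat.le_div_iff_mul_le (by omega)]
    have h : -((N : ℤ) * n) ≤ (((p - 1) * N : ℕ) : ℤ) * v := hveq.symm ▸ hlow
    push_cast [Nat.cast_sub hp1.le] at h
    have h2 : -(n : ℤ) ≤ ((p : ℤ) - 1) * v := by
      refine le_of_mul_le_mul_left (a := (N : ℤ)) ?_ (by exact_mod_cast hN0)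
      linarith
    have h3 : (p : ℤ) * (((p : ℤ) - 1) * j) ≤ p * n := by nlinarith
    have h4 := le_of_mul_le_mul_left h3 (by exact_mod_cast hp0)
    zify [hp1.le]
    linarith

/-- Schur's bound. -/
theorem card_factorization_le {p : ℕ} [hp : Fact p.Prime] (hP : IsPGroup p P)
    (hχ : Cfsg.IsCharacter P χ) (hfaith : ∀ g, χ g = χ 1 → g = 1) {n : ℕ} (hn : χ 1 = n)
    (hgal : ∀ (g : P) (m : ℕ), ¬ p ∣ m → χ (g ^ m) = χ g) :
    (Nat.card P).factorization p ≤ ∑ i ∈ range (n + 1), n / ((p - 1) * p ^ i) := by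
  classical
  haveI := Fintype.ofFinite P
  have hp1 := hp.out.one_lt
  obtain ⟨t, ht⟩ : ∃ t, n / (p - 1) = t := ⟨_, rfl⟩
  obtain ⟨Q, hQ⟩ : ∃ Q : ℤ[X], Q = ∏ j ∈ Icc 1 t, (X - C ((n : ℤ) - p * j)) := ⟨_, rfl⟩
  have hval : ∑ g : P, aeval (χ g) Q = ((∏ j ∈ Icc 1 t, ((p : ℤ) * j) : ℤ) : ℂ) := by
    rw [← add_sum_erase _ _ (mem_univ (1 : P))]
    have h0 : ∑ g ∈ (univ : Finset P).erase 1, aeval (χ g) Q = 0 := by
      refine sum_eq_zero fun g hg => ?_
      obtain ⟨k, hk⟩ := hP g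
      obtain ⟨a, -, ha⟩ := (Nat.dvd_prime_pow hp.out).1 (orderOf_dvd_of_pow_eq_one hk)
      rcases a with _ | a
      · exact absurd (orderOf_eq_one_iff.1 (by rw [ha, pow_zero])) (ne_of_mem_erase hg)
      obtain ⟨j, hj1, hjt, hj⟩ := exists_value hχ hfaith hn (ne_of_mem_erase hg) ha (hgal g)
      rw [hQ, map_prod]
      refine prod_eq_zero (Finset.mem_Icc.2 ⟨hj1, ht ▸ hjt⟩) ?_
      rw [map_sub, aeval_X, aeval_C, hj]
      simp
    rw [h0, add_zero, hQ, map_prod, hn, Int.cast_prod]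
    refine prod_congr rfl fun j _ => ?_
    rw [map_sub, aeval_X, aeval_C]
    simp
  have hdvd := card_dvd_prod hχ Q hval
  have hprod : ∀ t : ℕ, ∏ j ∈ Icc 1 t, ((p : ℤ) * j) = ((p ^ t * t.factorial : ℕ) : ℤ) := by
    intro t
    induction t with
    | zero => simp
    | succ t ih =>
      rw [prod_Icc_succ_top (by omega), ih, Nat.factorial_succ, pow_succ]
      push_cast
      ring
  rw [hprod, Int.natCast_dvd_natCast] at hdvd
  have hne : p ^ t * t.factorial ≠ 0 :=
    Nat.mul_ne_zero (pow_ne_zero _ hp.out.ne_zero) (Nat.factorial_ne_zero t)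
  refine ((Nat.factorization_le_iff_dvd Nat.card_pos.ne' hne).2 hdvd p).trans ?_
  rw [Nat.factorization_mul (pow_ne_zero _ hp.out.ne_zero) (Nat.factorial_ne_zero t),
    Finsupp.add_apply, Nat.factorization_pow, Finsupp.smul_apply, hp.out.factorization_self, smul_eq_mul,
    mul_one, Nat.factorization_factorial hp.out (b := n + 1) ?_, Finset.sum_range_eq_add_Ico _ (by omega)]
  · rw [pow_zero, mul_one, ht]
    refine Nat.add_le_add_left (sum_le_sum fun i _ => ?_) _
    rw [← Nat.div_div_eq_div_mul, ht]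
  · refine Nat.lt_succ_of_le ((Nat.log_le_self _ _).trans ?_)
    exact ht ▸ Nat.div_le_self _ _

/-- Values in a cyclotomic field of order prime to `p` are rational on a group of prime power order. -/
theorem apply_pow_eq {G : Type*} [Group G] [Finite G] {p : ℕ} [hp : Fact p.Prime] {χ : G → ℂ}
    (hχ : Cfsg.IsCharacter G χ) {r : ℕ} (hr : 0 < r) (hpr : ¬ p ∣ r)
    (hrat : ∀ g : G, χ g ∈ IntermediateField.adjoin ℚ
      ({Complex.exp (2 * Real.pi * Complex.I / r)} : Set ℂ))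
    {g : G} {k : ℕ} (hg : orderOf g = p ^ k) {m : ℕ} (hm : ¬ p ∣ m) : χ (g ^ m) = χ g := by
  have hcop : Nat.Coprime (p ^ k) r := Nat.Coprime.pow_left k ((hp.out.coprime_iff_not_dvd).2 hpr)
  obtain ⟨m', hm1, hm2⟩ := Nat.chineseRemainder hcop m 1
  have hc : m'.Coprime (p ^ k * r) := by
    refine Nat.Coprime.mul_right ?_ ?_
    · rw [Nat.coprime_iff_gcd_eq_one, hm1.gcd_eq]
      exact (Nat.Coprime.pow_right k ((hp.out.coprime_iff_not_dvd).2 hm).symm)
    · rw [Nat.coprime_iff_gcd_eq_one, hm2.gcd_eq, Nat.gcd_one_left]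
  obtain ⟨σ, hσ⟩ := exists_ringEquiv_pow (Nat.mul_pos (pow_pos hp.out.pos k) hr) hc
  have hfix : σ (χ g) = χ g := by
    refine IntermediateField.adjoin_induction ℚ (p := fun x _ => σ x = x) ?_ ?_ ?_ ?_ ?_ (hrat g)
    · intro x hx
      rw [Set.mem_singleton_iff.1 hx]
      obtain ⟨ζ, hζdef⟩ : ∃ ζ, Complex.exp (2 * Real.pi * Complex.I / r) = ζ := ⟨_, rfl⟩
      have hζ : ζ ^ r = 1 := hζdef ▸ (Complex.isPrimitiveRoot_exp r hr.ne').pow_eq_one
      rw [hζdef, hσ _ (by rw [mul_comm, pow_mul, hζ, one_pow]), pow_eq_pow_mod m' hζ, hm2,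
        ← pow_eq_pow_mod 1 hζ, pow_one]
    · intro x; rw [eq_ratCast, map_ratCast]
    · intro x y _ _ hx hy; rw [map_add, hx, hy]
    · intro x _ hx; rw [map_inv₀, hx]
    · intro x y _ _ hx hy; rw [map_mul, hx, hy]
  rw [IsCharacter.map_ringEquiv_eq_pow hχ σ (g := g) (t := m') fun z hz => hσ z (by
    rw [← hg, pow_mul, hz, one_pow])] at hfix
  rw [← hfix, ← pow_mod_orderOf g m, ← pow_mod_orderOf g m', hg, hm1]

end CfsgLib.SchurBound
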